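import Mathlib.LinearAlgebra.Matrix.Symmetric
import Mathlib.LinearAlgebra.Matrix.ToLin
import Mathlib.Algebra.Order.Field.Basic
import Mathlib.Algebra.Order.BigOperators.Group.Finset
import Mathlib.Tactic.Ring
import Mathlib.Tactic.Linarith
import Mathlib.Tactic.Positivity
import Mathlib.Tactic.FieldSimp

set_option autoImplicit false
open Finset

namespace Groth.Agent.NumType.Quad

variable {ι R : Type*} [Fintype ι] [DecidableEq ι]

/-- basic identity -/
theorem two_quad_eq [CommRing R] (A : Matrix ι ι R) (hs : A.IsSymm) (m y : ι → R) :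
    2 * dotProduct (fun i => y i * m i) (A.mulVec fun i => y i * m i) =
      2 * ∑ i, (∑ j, A i j * m j) * m i * y i ^ 2
        - ∑ i, ∑ j, A i j * m i * m j * (y i - y j) ^ 2 := by
  have e1 : ∑ i, ∑ j, A i j * m i * m j * y j ^ 2 = ∑ i, ∑ j, A i j * m i * m j * y i ^ 2 := by
    rw [Finset.sum_comm]
    refine Finset.sum_congr rfl fun i _ => Finset.sum_congr rfl fun j _ => ?_
    rw [hs.apply i j]; ring
  have e2 : ∑ i, ∑ j, A i j * m i * m j * (y i - y j) ^ 2 =
      ∑ i, ∑ j, A i j * m i * m j * y i ^ 2 + ∑ i, ∑ j, A i j * m i * m j * y j ^ 2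
      - 2 * ∑ i, ∑ j, A i j * (y i * m i) * (y j * m j) := by
    simp only [Finset.mul_sum, ← Finset.sum_add_distrib, ← Finset.sum_sub_distrib]
    exact Finset.sum_congr rfl fun i _ => Finset.sum_congr rfl fun j _ => by ring
  have e3 : dotProduct (fun i => y i * m i) (A.mulVec fun i => y i * m i) =
      ∑ i, ∑ j, A i j * (y i * m i) * (y j * m j) := by
    simp only [dotProduct, Matrix.mulVec, Finset.mul_sum]
    exact Finset.sum_congr rfl fun i _ => Finset.sum_congr rfl fun j _ => by ring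
  have e4 : ∑ i, (∑ j, A i j * m j) * m i * y i ^ 2 = ∑ i, ∑ j, A i j * m i * m j * y i ^ 2 := by
    simp only [Finset.sum_mul]
    exact Finset.sum_congr rfl fun i _ => Finset.sum_congr rfl fun j _ => by ring
  rw [e2, e3, e4, e1]; ring

variable [CommRing R] [LinearOrder R] [IsStrictOrderedRing R]

theorem quad_nonpos (A : Matrix ι ι R) (hs : A.IsSymm) (hA : ∀ i j, i ≠ j → 0 ≤ A i j)
    (m : ι → R) (hm : ∀ i, 0 < m i) (hle : ∀ i, ∑ j, A i j * m j ≤ 0) (y : ι → R) :
    dotProduct (fun i => y i * m i) (A.mulVec fun i => y i * m i) ≤ 0 := by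
  have h := two_quad_eq A hs m y
  have h1 : ∑ i, (∑ j, A i j * m j) * m i * y i ^ 2 ≤ 0 :=
    Finset.sum_nonpos fun i _ => mul_nonpos_of_nonpos_of_nonneg
      (mul_nonpos_of_nonpos_of_nonneg (hle i) (hm i).le) (sq_nonneg _)
  have h2 : 0 ≤ ∑ i, ∑ j, A i j * m i * m j * (y i - y j) ^ 2 :=
    Finset.sum_nonneg fun i _ => Finset.sum_nonneg fun j _ => by
      by_cases hij : i = j
      · simp [hij]
      · have := hA i j hij; have := hm i; have := hm j; positivity
  linarith

theorem quad_eq_zero (A : Matrix ι ι R) (hs : A.IsSymm) (hA : ∀ i j, i ≠ j → 0 ≤ A i j)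
    (m : ι → R) (hm : ∀ i, 0 < m i) (hle : ∀ i, ∑ j, A i j * m j ≤ 0) (y : ι → R)
    (h0 : dotProduct (fun i => y i * m i) (A.mulVec fun i => y i * m i) = 0) :
    (∀ i, y i ≠ 0 → ∑ j, A i j * m j = 0) ∧ (∀ i j, y i ≠ y j → A i j = 0) := by
  have h := two_quad_eq A hs m y
  have n1 : ∀ i ∈ (univ : Finset ι), (∑ j, A i j * m j) * m i * y i ^ 2 ≤ 0 :=
    fun i _ => mul_nonpos_of_nonpos_of_nonneg
      (mul_nonpos_of_nonpos_of_nonneg (hle i) (hm i).le) (sq_nonneg _)
  have n2 : ∀ i ∈ (univ : Finset ι), ∀ j ∈ (univ : Finset ι),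
      0 ≤ A i j * m i * m j * (y i - y j) ^ 2 := fun i _ j _ => by
      by_cases hij : i = j
      · simp [hij]
      · have := hA i j hij; have := hm i; have := hm j; positivity
  have s1 := Finset.sum_nonpos n1
  have s2 := Finset.sum_nonneg fun i hi => Finset.sum_nonneg (n2 i hi)
  rw [h0] at h
  have z1 : ∑ i, (∑ j, A i j * m j) * m i * y i ^ 2 = 0 := by linarith
  have z2 : ∑ i, ∑ j, A i j * m i * m j * (y i - y j) ^ 2 = 0 := by linarith
  constructor
  · intro i hi
    have := (Finset.sum_eq_zero_iff_of_nonpos n1).1 z1 i (mem_univ i)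
    simpa [(hm i).ne', hi] using this
  · intro i j hij
    have := (Finset.sum_eq_zero_iff_of_nonneg fun i hi => Finset.sum_nonneg (n2 i hi)).1 z2 i
      (mem_univ i)
    have := (Finset.sum_eq_zero_iff_of_nonneg (n2 i (mem_univ i))).1 this j (mem_univ j)
    simpa [(hm i).ne', (hm j).ne', sub_ne_zero.2 hij] using this

end Groth.Agent.NumType.Quad
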