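import Groth.Prelude.Def_Models
import Groth.Agent.NumType.Quad
import Mathlib.Data.Int.Order.Basic
import Mathlib.Algebra.Order.Ring.Int
import Mathlib.Tactic.IntervalCases
import Mathlib.Data.Fintype.Card

set_option autoImplicit false
open Finset Models

namespace Groth.Agent.NumType.Basic

variable {n : ℕ} (T : NumericalType n)

theorem sum_row (i : Fin n) : ∑ j, T.a i j * T.m j = 0 := congr_fun T.mulVec_m i

theorem row_eq (i : Fin n) : ∑ j ∈ univ.erase i, T.a i j * T.m j = -T.a i i * T.m i := by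
  have := sum_row T i
  rw [← Finset.add_sum_erase _ _ (mem_univ i)] at this
  linarith

theorem row_le (i : Fin n) (S : Finset (Fin n)) (hS : i ∉ S) :
    ∑ j ∈ S, T.a i j * T.m j ≤ -T.a i i * T.m i := by
  rw [← row_eq T i]
  refine Finset.sum_le_sum_of_subset_of_nonneg (fun j hj => ?_) fun j hj _ => ?_
  · simp only [mem_erase, mem_univ, and_true]
    rintro rfl; exact hS hj
  · exact mul_nonneg (T.offDiag_nonneg i j (Ne.symm (ne_of_mem_erase hj))) (T.m_pos j).le

theorem row1 (i p : Fin n) (hp : p ≠ i) : T.a i p * T.m p ≤ -T.a i i * T.m i := by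
  simpa using row_le T i {p} (by simpa using hp.symm)

theorem row2 (i p q : Fin n) (hp : p ≠ i) (hq : q ≠ i) (hpq : p ≠ q) :
    T.a i p * T.m p + T.a i q * T.m q ≤ -T.a i i * T.m i := by
  simpa [Finset.sum_pair hpq] using row_le T i {p, q} (by simp [hp.symm, hq.symm])

theorem row3 (i p q r : Fin n) (hp : p ≠ i) (hq : q ≠ i) (hr : r ≠ i) (hpq : p ≠ q) (hpr : p ≠ r)
    (hqr : q ≠ r) : T.a i p * T.m p + T.a i q * T.m q + T.a i r * T.m r ≤ -T.a i i * T.m i := by
  have := row_le T i {p, q, r} (by simp [hp.symm, hq.symm, hr.symm])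
  rw [Finset.sum_insert (by simp [hpq, hpr]), Finset.sum_pair hqr] at this
  linarith

theorem a_symm (i j : Fin n) : T.a i j = T.a j i := T.symm.apply j i

theorem a_pos (i j : Fin n) (h : i ≠ j) (ha : T.a i j ≠ 0) : 0 < T.a i j :=
  lt_of_le_of_ne (T.offDiag_nonneg i j h) ha.symm

theorem w_le (i j : Fin n) (h : i ≠ j) (ha : T.a i j ≠ 0) : T.w i ≤ T.a i j :=
  Int.le_of_dvd (a_pos T i j h ha) (T.w_dvd i j)

theorem w_le' (i j : Fin n) (h : i ≠ j) (ha : T.a i j ≠ 0) : T.w j ≤ T.a i j := by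
  rw [a_symm T]; exact w_le T j i h.symm (by rwa [a_symm T])

theorem exists_adj (hn : 1 < n) (i : Fin n) : ∃ j, j ≠ i ∧ 0 < T.a i j := by
  have : ({i} : Finset (Fin n)) ≠ univ := fun h => by
    have := congr_arg Finset.card h; simp at this; omega
  obtain ⟨k, hk, j, hj, h⟩ := T.connected {i} ⟨i, by simp⟩ this
  simp at hk hj; subst hk
  exact ⟨j, hj, a_pos T k j (Ne.symm hj) h⟩

theorem diag_neg (hn : 1 < n) (i : Fin n) : T.a i i < 0 := by
  obtain ⟨j, hj, h⟩ := exists_adj T hn i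
  have h1 := row1 T i j hj
  have := mul_pos h (T.m_pos j)
  have h3 : T.a i i * T.m i < 0 := by linarith
  exact neg_of_mul_neg_left h3 (T.m_pos i).le

/-- negative semidefiniteness over the integers, with the equality case -/
theorem quad_neg (x : Fin n → ℤ) (hx : x ≠ 0) (i0 : Fin n) (h0 : x i0 = 0) :
    dotProduct x (T.a.mulVec x) < 0 := by
  classical
  let A : Matrix (Fin n) (Fin n) ℚ := fun i j => (T.a i j : ℚ)
  have hs : A.IsSymm := by
    ext i j; simp only [Matrix.transpose_apply, A, a_symm T i j]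
  have hA : ∀ i j, i ≠ j → 0 ≤ A i j := fun i j h => by
    simp only [A]
    exact Int.cast_nonneg (T.offDiag_nonneg i j h)
  have hm : ∀ i, (0 : ℚ) < T.m i := fun i => by exact_mod_cast T.m_pos i
  have hrow : ∀ i, ∑ j, A i j * (T.m j : ℚ) ≤ 0 := fun i => by
    have := sum_row T i
    refine le_of_eq ?_
    simp only [A]
    exact_mod_cast this
  set y : Fin n → ℚ := fun i => (x i : ℚ) / T.m i with hy
  have hxy : (fun i => y i * (T.m i : ℚ)) = fun i => (x i : ℚ) :=
    funext fun i => div_mul_cancel₀ _ (hm i).ne'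
  have hq : dotProduct (fun i => y i * (T.m i : ℚ)) (A.mulVec fun i => y i * (T.m i : ℚ)) =
      ((dotProduct x (T.a.mulVec x) : ℤ) : ℚ) := by
    simp only [dotProduct, Matrix.mulVec, A, hy, Int.cast_sum, Int.cast_mul, Finset.mul_sum]
    refine Finset.sum_congr rfl fun i _ => Finset.sum_congr rfl fun j _ => ?_
    rw [div_mul_cancel₀ _ (hm i).ne', div_mul_cancel₀ _ (hm j).ne']
  have hle := Quad.quad_nonpos A hs hA (fun i => (T.m i : ℚ)) hm hrow y
  rw [hq] at hle
  rcases lt_or_eq_of_le hle with h | h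
  · exact_mod_cast h
  exfalso
  obtain ⟨-, h2⟩ := Quad.quad_eq_zero A hs hA (fun i => (T.m i : ℚ)) hm hrow y (by rw [hq, h])
  obtain ⟨k, hk⟩ := Function.ne_iff.1 hx
  have hyk : y k ≠ y i0 := by simp [hy, h0, (hm k).ne']; exact hk
  have hI : univ.filter (fun i => y i = y k) ≠ univ := by
    intro hu
    have := mem_univ i0
    rw [← hu, mem_filter] at this
    exact hyk this.2.symm
  obtain ⟨i, hi, j, hj, hij⟩ := T.connected _ ⟨k, by simp⟩ hI
  simp at hi hj
  have := h2 i j (by rw [hi]; exact Ne.symm hj)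
  exact hij (by simpa [A] using this)

/-- A proper set of (-2)-indices carries no positive super-harmonic vector. -/
theorem contra {k : ℕ} (hk : k < n) (v : Fin k → Fin n) (hvi : Function.Injective v) (p0 : Fin k)
    (hv : ∀ p, T.IsMinusTwo (v p)) (x : Fin k → ℤ) (hx : ∀ p, 0 < x p)
    (h : ∀ p, 2 * T.w (v p) * x p ≤ ∑ q ∈ univ.erase p, T.a (v p) (v q) * x q) : False := by
  classical
  let X : Fin n → ℤ := Function.extend v x 0
  have hX : ∀ p, X (v p) = x p := fun p => hvi.extend_apply _ _ _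
  have hX0 : ∀ i, i ∉ univ.image v → X i = 0 := fun i hi => by
    refine Function.extend_apply' _ _ _ ?_
    rintro ⟨p, rfl⟩; simp at hi
  obtain ⟨i0, hi0⟩ : ∃ i0, i0 ∉ univ.image v := by
    by_contra hc; push Not at hc
    have : (univ.image v).card = n := by rw [Finset.eq_univ_iff_forall.2 hc]; simp
    rw [Finset.card_image_of_injective _ hvi] at this
    simp at this; omega
  have hne : X ≠ 0 := fun h0 => by
    have := hX p0; rw [h0] at this; simp at this; linarith [hx p0]
  have key := quad_neg T X hne i0 (hX0 i0 hi0)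
  have : dotProduct X (T.a.mulVec X) = ∑ p, x p * ∑ q, T.a (v p) (v q) * x q := by
    have inner : ∀ i, T.a.mulVec X i = ∑ q, T.a i (v q) * x q := fun i => by
      simp only [Matrix.mulVec, dotProduct]
      rw [← Finset.sum_subset (Finset.subset_univ (univ.image v))
        (fun j _ hj => by rw [hX0 j hj, mul_zero]), Finset.sum_image fun a _ b _ h => hvi h]
      exact Finset.sum_congr rfl fun q _ => by rw [hX q]
    simp only [dotProduct]
    rw [← Finset.sum_subset (Finset.subset_univ (univ.image v))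
        (fun j _ hj => by rw [hX0 j hj, zero_mul]), Finset.sum_image fun a _ b _ h => hvi h]
    exact Finset.sum_congr rfl fun q _ => by rw [hX q, inner]
  rw [this] at key
  have : 0 ≤ ∑ p, x p * ∑ q, T.a (v p) (v q) * x q := Finset.sum_nonneg fun p _ => by
    refine mul_nonneg (hx p).le ?_
    rw [← Finset.add_sum_erase _ _ (mem_univ p), (hv p).2]
    linarith [h p]
  linarith

theorem le_sum1 {k : ℕ} (v : Fin k → Fin n) (hvi : Function.Injective v) (x : Fin k → ℤ)
    (hx : ∀ p, 0 < x p) (p q : Fin k) (hq : q ≠ p) :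
    T.a (v p) (v q) * x q ≤ ∑ j ∈ univ.erase p, T.a (v p) (v j) * x j :=
  Finset.single_le_sum (f := fun j => T.a (v p) (v j) * x j)
    (fun j hj => mul_nonneg (T.offDiag_nonneg _ _ (hvi.ne (ne_of_mem_erase hj).symm)) (hx j).le)
    (by simp [hq])

theorem le_sumS {k : ℕ} (v : Fin k → Fin n) (hvi : Function.Injective v) (x : Fin k → ℤ)
    (hx : ∀ p, 0 < x p) (p : Fin k) (S : Finset (Fin k)) (hS : p ∉ S) :
    ∑ j ∈ S, T.a (v p) (v j) * x j ≤ ∑ j ∈ univ.erase p, T.a (v p) (v j) * x j :=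
  Finset.sum_le_sum_of_subset_of_nonneg
    (fun j hj => mem_erase.2 ⟨fun h => hS (h ▸ hj), mem_univ _⟩)
    fun j hj _ => mul_nonneg (T.offDiag_nonneg _ _ (hvi.ne (ne_of_mem_erase hj).symm)) (hx j).le

theorem le_sum2 {k : ℕ} (v : Fin k → Fin n) (hvi : Function.Injective v) (x : Fin k → ℤ)
    (hx : ∀ p, 0 < x p) (p q r : Fin k) (hq : q ≠ p) (hr : r ≠ p) (hqr : q ≠ r) :
    T.a (v p) (v q) * x q + T.a (v p) (v r) * x r ≤
      ∑ j ∈ univ.erase p, T.a (v p) (v j) * x j := by
  simpa [Finset.sum_pair hqr] using le_sumS T v hvi x hx p {q, r} (by simp [hq.symm, hr.symm])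

theorem le_sum3 {k : ℕ} (v : Fin k → Fin n) (hvi : Function.Injective v) (x : Fin k → ℤ)
    (hx : ∀ p, 0 < x p) (p q r s : Fin k) (hq : q ≠ p) (hr : r ≠ p) (hs : s ≠ p) (hqr : q ≠ r)
    (hqs : q ≠ s) (hrs : r ≠ s) :
    T.a (v p) (v q) * x q + T.a (v p) (v r) * x r + T.a (v p) (v s) * x s ≤
      ∑ j ∈ univ.erase p, T.a (v p) (v j) * x j := by
  have := le_sumS T v hvi x hx p {q, r, s} (by simp [hq.symm, hr.symm, hs.symm])
  rw [Finset.sum_insert (by simp [hqr, hqs]), Finset.sum_pair hrs] at this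
  linarith

/-- A proper set of (-2)-indices in which every index has two neighbours does not exist. -/
theorem no_cycle {k : ℕ} (hk : k < n) (v : Fin k → Fin n) (hvi : Function.Injective v)
    (hv : ∀ p, T.IsMinusTwo (v p)) (p0 : Fin k) (C : Fin k → Fin k × Fin k)
    (h : ∀ p, (C p).1 ≠ p ∧ (C p).2 ≠ p ∧ (C p).1 ≠ (C p).2 ∧
      T.a (v p) (v (C p).1) ≠ 0 ∧ T.a (v p) (v (C p).2) ≠ 0) : False := by
  refine contra T hk v hvi p0 hv (fun _ => 1) (fun _ => one_pos) fun p => ?_
  obtain ⟨h1, h2, h3, h4, h5⟩ := h p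
  have := le_sum2 T v hvi (fun _ => 1) (fun _ => one_pos) p (C p).1 (C p).2 h1 h2 h3
  have := w_le T _ _ (hvi.ne h1.symm) h4
  have := w_le T _ _ (hvi.ne h2.symm) h5
  linarith

theorem lt_four_mul (hn : 2 < n) (i j : Fin n) (hij : i ≠ j) (hi : T.IsMinusTwo i)
    (hj : T.IsMinusTwo j) (ha : T.a i j ≠ 0) : T.a i j * T.a i j < 4 * T.w i * T.w j := by
  by_contra hc; push Not at hc
  have hai := a_pos T i j hij ha
  refine contra T (k := 2) hn ![i, j] ?_ 0 ?_ ![T.a i j, 2 * T.w i] ?_ ?_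
  · intro a b; fin_cases a <;> fin_cases b <;> simp [hij, hij.symm]
  · intro p; fin_cases p <;> simpa
  · intro p; fin_cases p <;> simp [hai, T.w_pos i]
  · refine Fin.forall_fin_two.2 ⟨?_, ?_⟩
    · rw [show (univ.erase (0 : Fin 2)) = {1} from by decide]; simp; ring_nf; exact le_rfl
    · rw [show (univ.erase (1 : Fin 2)) = {0} from by decide]; simp [← a_symm T i j]; linarith

theorem edge_cases (hn : 2 < n) (i j : Fin n) (hij : i ≠ j) (hi : T.IsMinusTwo i)
    (hj : T.IsMinusTwo j) (ha : T.a i j ≠ 0) :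
    (T.w j = T.w i ∧ T.a i j = T.w i) ∨ (T.w j = 2 * T.w i ∧ T.a i j = T.w j) ∨
    (T.w i = 2 * T.w j ∧ T.a i j = T.w i) ∨ (T.w j = 3 * T.w i ∧ T.a i j = T.w j) ∨
    (T.w i = 3 * T.w j ∧ T.a i j = T.w i) := by
  have h4 := lt_four_mul T hn i j hij hi hj ha
  obtain ⟨p, hp⟩ := T.w_dvd i j
  obtain ⟨q, hq⟩ := T.w_dvd j i
  rw [← a_symm T i j] at hq
  have hwi := T.w_pos i; have hwj := T.w_pos j
  have hapos := a_pos T i j hij ha
  have hp0 : 0 < p := by by_contra hc; push Not at hc; nlinarith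
  have hq0 : 0 < q := by by_contra hc; push Not at hc; nlinarith
  have hpq : p * q < 4 := by
    by_contra hc; push Not at hc
    have e : T.a i j * T.a i j = T.w i * T.w j * (p * q) := by
      nth_rewrite 1 [hp]; rw [hq]; ring
    nlinarith [mul_pos hwi hwj]
  have hp3 : p ≤ 3 := by nlinarith
  have hq3 : q ≤ 3 := by nlinarith
  interval_cases p <;> interval_cases q <;> omega

end Groth.Agent.NumType.Basic
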