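import Groth.Agent.NumType.Shapes

set_option autoImplicit false
open Finset Models

namespace Groth.Agent.NumType.Chains
open Groth.Agent.NumType.Basic Groth.Agent.NumType.Shapes

variable {n : ℕ} (T : NumericalType n)

theorem chain_zero (t : ℕ) (hn : t < n) (v : Fin t → Fin n) (hvi : Function.Injective v)
    (hv : ∀ p, T.IsMinusTwo (v p))
    (hc : ∀ p q : Fin t, q.val = p.val + 1 → T.a (v p) (v q) ≠ 0)
    (j k : Fin t) (hjk : j.val + 1 < k.val) : T.a (v j) (v k) = 0 := by
  by_contra ha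
  have hk := k.isLt
  obtain ⟨d, hd⟩ : ∃ d, d = k.val - j.val := ⟨_, rfl⟩
  let u : Fin (d + 1) → Fin t := fun p => ⟨j.val + p.val, by omega⟩
  have hui : Function.Injective (v ∘ u) := hvi.comp fun a b h => by
    simp [u, Fin.ext_iff] at h; exact Fin.ext h
  let C : Fin (d + 1) → Fin (d + 1) × Fin (d + 1) := fun p =>
    if p.val = 0 then (⟨1, by omega⟩, ⟨d, by omega⟩)
    else if p.val = d then (⟨0, by omega⟩, ⟨d - 1, by omega⟩)
    else (⟨p.val - 1, by omega⟩, ⟨if p.val + 1 ≤ d then p.val + 1 else 0, by split_ifs <;> omega⟩)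
  refine no_cycle T (show d + 1 < n by omega) (v ∘ u) hui (fun p => hv _) ⟨0, by omega⟩ C fun p => ?_
  have := p.isLt
  simp only [C, Function.comp]
  split_ifs with h0 hd' h1
  · refine ⟨by simp [Fin.ext_iff]; omega, by simp [Fin.ext_iff]; omega,
      by simp [Fin.ext_iff]; omega, hc _ _ (show j.val + 1 = j.val + p.val + 1 by omega), ?_⟩
    have e1 : u p = j := Fin.ext (show j.val + p.val = j.val by omega)
    have e2 : u ⟨d, by omega⟩ = k := Fin.ext (show j.val + d = k.val by omega)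
    rwa [e1, e2]
  · refine ⟨by simp [Fin.ext_iff]; omega, by simp [Fin.ext_iff]; omega,
      by simp [Fin.ext_iff]; omega, ?_, ?_⟩
    · have e1 : u p = k := Fin.ext (by simp [u]; omega)
      have e2 : u ⟨0, by omega⟩ = j := Fin.ext (by simp [u])
      rwa [e1, e2, a_symm T]
    · rw [a_symm T]; exact hc _ _ (by simp [u]; omega)
  · refine ⟨by simp [Fin.ext_iff]; omega, by simp [Fin.ext_iff],
      by simp [Fin.ext_iff], ?_, hc _ _ (by simp [u]; omega)⟩
    rw [a_symm T]; exact hc _ _ (by simp [u]; omega)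
  · omega

/-- edges of a chain with at least three indices -/
theorem chain_edge (t : ℕ) (ht : 3 ≤ t) (hn : t < n) (v : Fin t → Fin n) (hvi : Function.Injective v)
    (hv : ∀ p, T.IsMinusTwo (v p))
    (hc : ∀ p q : Fin t, q.val = p.val + 1 → T.a (v p) (v q) ≠ 0)
    (p q : Fin t) (hpq : q.val = p.val + 1) :
    (T.w (v q) = T.w (v p) ∧ T.a (v p) (v q) = T.w (v p)) ∨
    (T.w (v q) = 2 * T.w (v p) ∧ T.a (v p) (v q) = T.w (v q)) ∨
    (T.w (v p) = 2 * T.w (v q) ∧ T.a (v p) (v q) = T.w (v p)) := by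
  have hne : p ≠ q := by intro h; simp [h] at hpq
  by_cases hq : q.val + 1 < t
  · exact no_triple T (by omega) (v p) (v q) (v ⟨q.val + 1, hq⟩) (hvi.ne hne)
      (hvi.ne (by simp [Fin.ext_iff])) (hvi.ne (by simp [Fin.ext_iff]; omega))
      (hv _) (hv _) (hv _) (hc p q hpq) (hc q _ rfl)
  · have hp : p.val - 1 < t := by omega
    have h := no_triple T (by omega) (v q) (v p) (v ⟨p.val - 1, hp⟩) (hvi.ne hne.symm)
      (hvi.ne (by simp [Fin.ext_iff]; omega)) (hvi.ne (by simp [Fin.ext_iff]; omega))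
      (hv _) (hv _) (hv _) (by rw [a_symm T]; exact hc p q hpq)
      (by rw [a_symm T]; exact hc _ p (by simp; omega))
    rw [a_symm T (v q) (v p)] at h
    omega

theorem const_of_no_change (t : ℕ) (f : Fin t → ℤ) (a b : Fin t) (hab : a.val ≤ b.val)
    (h : ∀ p q : Fin t, q.val = p.val + 1 → a.val ≤ p.val → q.val ≤ b.val → f p = f q) :
    f a = f b := by
  obtain ⟨d, hd⟩ := Nat.exists_eq_add_of_le hab
  induction d generalizing b with
  | zero => exact congr_arg f (Fin.ext (by omega))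
  | succ d ih =>
    have hb : a.val + d < t := by omega
    rw [ih ⟨a.val + d, hb⟩ (by simp) (fun p q e h1 h2 => h p q e h1 (by simp at h2; omega)) rfl]
    exact h _ b (by simp; omega) (by simp) le_rfl

theorem change_unique (t : ℕ) (hn : t < n) (v : Fin t → Fin n) (hvi : Function.Injective v)
    (hv : ∀ p, T.IsMinusTwo (v p))
    (hc : ∀ p q : Fin t, q.val = p.val + 1 → T.a (v p) (v q) ≠ 0)
    (p q r s : Fin t) (hpq : q.val = p.val + 1) (hrs : s.val = r.val + 1)
    (h1 : T.w (v p) ≠ T.w (v q)) (h2 : T.w (v r) ≠ T.w (v s)) : p = r := by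
  have key : ∀ p q r s : Fin t, q.val = p.val + 1 → s.val = r.val + 1 → p.val < r.val →
      T.w (v p) ≠ T.w (v q) → T.w (v r) ≠ T.w (v s) → False := by
    intro p q r s hpq hrs hlt h1 h2
    have := s.isLt
    obtain ⟨d, hd⟩ : ∃ d, d = s.val - p.val := ⟨_, rfl⟩
    let u : Fin (d + 1) → Fin t := fun i => ⟨p.val + i.val, by omega⟩
    refine double_double T d (by omega) (by omega) (v ∘ u)
      (hvi.comp fun a b h => by simp [u, Fin.ext_iff] at h; exact Fin.ext h) (fun i => hv _)
      (fun a b h => hc _ _ (by simp [u]; omega)) ?_ ?_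
    · have e1 : u ⟨0, by omega⟩ = p := Fin.ext (by simp [u])
      have e2 : u ⟨1, by omega⟩ = q := Fin.ext (by simp [u]; omega)
      simp only [Function.comp, e1, e2]; exact h1
    · have e1 : u ⟨d - 1, by omega⟩ = r := Fin.ext (by simp [u]; omega)
      have e2 : u ⟨d, by omega⟩ = s := Fin.ext (by simp [u]; omega)
      simp only [Function.comp, e1, e2]; exact h2
  rcases lt_trichotomy p.val r.val with h | h | h
  · exact (key p q r s hpq hrs h h1 h2).elim
  · exact Fin.ext h
  · exact (key r s p q hrs hpq h h2 h1).elim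

/-- five indices in a row cannot change weight at the third edge -/
theorem no_mid_change (hn : 5 < n) (v : Fin 5 → Fin n) (hvi : Function.Injective v)
    (hv : ∀ p, T.IsMinusTwo (v p))
    (hc : ∀ p q : Fin 5, q.val = p.val + 1 → T.a (v p) (v q) ≠ 0)
    (h : T.w (v 2) ≠ T.w (v 3)) : False := by
  have g := heavy T (by omega) _ _ (hvi.ne (show (2 : Fin 5) ≠ 3 by decide)) (hv _) (hv _)
    (hc 2 3 rfl) h
  have a01 := w_le T _ _ (hvi.ne (show (0 : Fin 5) ≠ 1 by decide)) (hc 0 1 rfl)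
  have b01 := w_le' T _ _ (hvi.ne (show (0 : Fin 5) ≠ 1 by decide)) (hc 0 1 rfl)
  have a12 := w_le T _ _ (hvi.ne (show (1 : Fin 5) ≠ 2 by decide)) (hc 1 2 rfl)
  have b12 := w_le' T _ _ (hvi.ne (show (1 : Fin 5) ≠ 2 by decide)) (hc 1 2 rfl)
  have a34 := w_le T _ _ (hvi.ne (show (3 : Fin 5) ≠ 4 by decide)) (hc 3 4 rfl)
  have b34 := w_le' T _ _ (hvi.ne (show (3 : Fin 5) ≠ 4 by decide)) (hc 3 4 rfl)
  have := T.w_pos (v 2); have := T.w_pos (v 3)
  have s1 := a_symm T (v 0) (v 1); have s2 := a_symm T (v 1) (v 2)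
  have s3 := a_symm T (v 2) (v 3); have s4 := a_symm T (v 3) (v 4)
  have go : ∀ x : Fin 5 → ℤ, (∀ p, 0 < x p) →
      2 * T.w (v 0) * x 0 ≤ T.a (v 0) (v 1) * x 1 →
      2 * T.w (v 1) * x 1 ≤ T.a (v 1) (v 0) * x 0 + T.a (v 1) (v 2) * x 2 →
      2 * T.w (v 2) * x 2 ≤ T.a (v 2) (v 1) * x 1 + T.a (v 2) (v 3) * x 3 →
      2 * T.w (v 3) * x 3 ≤ T.a (v 3) (v 2) * x 2 + T.a (v 3) (v 4) * x 4 →
      2 * T.w (v 4) * x 4 ≤ T.a (v 4) (v 3) * x 3 → False := fun x hx e0 e1 e2 e3 e4 => by
    refine contra T hn v hvi 0 hv x hx ?_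
    intro p
    match p with
    | 0 => exact e0.trans (le_sum1 T v hvi x hx 0 1 (by decide))
    | 1 => exact e1.trans (le_sum2 T v hvi x hx 1 0 2 (by decide) (by decide) (by decide))
    | 2 => exact e2.trans (le_sum2 T v hvi x hx 2 1 3 (by decide) (by decide) (by decide))
    | 3 => exact e3.trans (le_sum2 T v hvi x hx 3 2 4 (by decide) (by decide) (by decide))
    | 4 => exact e4.trans (le_sum1 T v hvi x hx 4 3 (by decide))
  rcases g with ⟨g1, g2⟩ | ⟨g1, g2⟩
  · exact go ![1, 2, 3, 2, 1] (by decide) (by simp; omega) (by simp; omega) (by simp; omega)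
      (by simp; omega) (by simp; omega)
  · exact go ![1, 2, 3, 4, 2] (by decide) (by simp; omega) (by simp; omega) (by simp; omega)
      (by simp; omega) (by simp; omega)

/-- in a chain of at least five indices only the extreme edges can change the weight -/
theorem change_at_end (t : ℕ) (hn : t < n) (v : Fin t → Fin n) (hvi : Function.Injective v)
    (hv : ∀ p, T.IsMinusTwo (v p))
    (hc : ∀ p q : Fin t, q.val = p.val + 1 → T.a (v p) (v q) ≠ 0)
    (ht : 5 ≤ t) (p q : Fin t) (hpq : q.val = p.val + 1) (h : T.w (v p) ≠ T.w (v q)) :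
    p.val = 0 ∨ q.val + 1 = t := by
  by_contra hh; push Not at hh
  have := q.isLt
  by_cases h2 : 2 ≤ p.val
  · let u : Fin 5 → Fin t := fun i => ⟨p.val - 2 + i.val, by omega⟩
    refine no_mid_change T (by omega) (v ∘ u)
      (hvi.comp fun a b h => by simp [u, Fin.ext_iff] at h; exact Fin.ext h) (fun i => hv _)
      (fun a b h => hc _ _ (by simp [u]; omega)) ?_
    have e1 : u 2 = p := Fin.ext (by simp [u]; omega)
    have e2 : u 3 = q := Fin.ext (by simp [u]; omega)
    simp only [Function.comp, e1, e2]; exact h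
  · let u : Fin 5 → Fin t := fun i => ⟨p.val + 3 - i.val, by omega⟩
    refine no_mid_change T (by omega) (v ∘ u)
      (hvi.comp fun a b h => by simp [u, Fin.ext_iff] at h; exact Fin.ext (by omega)) (fun i => hv _)
      (fun a b h => by rw [a_symm T]; exact hc _ _ (by simp [u]; omega)) ?_
    have e1 : u 3 = p := Fin.ext (by simp [u])
    have e2 : u 2 = q := Fin.ext (by simp [u]; omega)
    simp only [Function.comp, e1, e2]; exact h.symm

end Groth.Agent.NumType.Chains
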