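import Groth.Agent.NumType.Basic
import Mathlib.Combinatorics.SimpleGraph.Acyclic

set_option autoImplicit false
open Finset Models

namespace Groth.Agent.NumType.Genus
open Groth.Agent.NumType.Basic

variable {n : ℕ} (T : NumericalType n)

/-- the contribution of an index to twice the genus -/
def contrib (i : Fin n) : ℤ := T.m i * (2 * T.w i * (T.g i - 1) - T.a i i)

theorem sum_offdiag {f : Fin n → Fin n → ℤ} (hf : ∀ i j, f i j = f j i) :
    ∑ i, ∑ j, f i j = ∑ i, f i i + 2 * ∑ i, ∑ j ∈ univ.filter (fun j => i < j), f i j := by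
  have h : ∀ i, ∑ j, f i j = f i i + ∑ j ∈ univ.filter (fun j => i < j), f i j
      + ∑ j ∈ univ.filter (fun j => j < i), f i j := fun i => by
    rw [← Finset.sum_filter_add_sum_filter_not univ (fun j => i < j)]
    have : univ.filter (fun j => ¬ i < j) = insert i (univ.filter (fun j => j < i)) := by
      ext j; simp; omega
    rw [this, Finset.sum_insert (by simp)]; ring
  simp only [h, Finset.sum_add_distrib]
  have : ∑ i, ∑ j ∈ univ.filter (fun j => j < i), f i j =
      ∑ i, ∑ j ∈ univ.filter (fun j => i < j), f i j := by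
    simp only [Finset.sum_filter]
    rw [Finset.sum_comm]
    exact Finset.sum_congr rfl fun i _ => Finset.sum_congr rfl fun j _ => by rw [hf j i]
  rw [this]; ring

theorem two_dvd_sum : (2 : ℤ) ∣ ∑ i, T.m i * T.a i i := by
  have h0 : ∑ i, ∑ j, T.m i * T.a i j * T.m j = 0 := by
    refine Finset.sum_eq_zero fun i _ => ?_
    simp only [mul_assoc, ← Finset.mul_sum, sum_row T i, mul_zero]
  have h1 := sum_offdiag (f := fun i j => T.m i * T.a i j * T.m j)
    (fun i j => by rw [a_symm T i j]; ring)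
  simp only [h0] at h1
  have h2 : (2 : ℤ) ∣ ∑ i, T.m i * T.a i i * T.m i :=
    ⟨-∑ i, ∑ j ∈ univ.filter (fun j => i < j), T.m i * T.a i j * T.m j, by linarith⟩
  have h3 : (2 : ℤ) ∣ ∑ i, (T.m i * T.a i i * T.m i - T.m i * T.a i i) := by
    refine Finset.dvd_sum fun i _ => ?_
    have := (Int.even_mul_succ_self (T.m i - 1)).two_dvd
    rw [show T.m i * T.a i i * T.m i - T.m i * T.a i i
      = (T.m i - 1) * (T.m i - 1 + 1) * T.a i i by ring]
    exact this.mul_right _
  rw [Finset.sum_sub_distrib] at h3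
  simpa using h2.sub h3

theorem two_genus : 2 * (T.genus - 1) = ∑ i, contrib T i := by
  have h := two_dvd_sum T
  unfold NumericalType.genus contrib
  rw [mul_sub, mul_sub, mul_add, Int.mul_ediv_cancel' h]
  simp only [Finset.mul_sum, mul_sub, Finset.sum_sub_distrib]
  have : ∀ i, T.m i * (2 * T.w i * T.g i) - T.m i * (2 * T.w i * 1) =
      2 * (T.m i * T.w i * T.g i) - 2 * (T.m i * T.w i * 1) := fun i => by ring
  rw [← Finset.sum_sub_distrib, ← Finset.sum_sub_distrib]
  simp only [this]; ring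

theorem minusOne_of_neg (hn : 1 < n) (i : Fin n) (h : contrib T i < 0) : T.IsMinusOne i := by
  have hd := diag_neg T hn i
  obtain ⟨k, hk⟩ := T.w_dvd i i
  have hw := T.w_pos i; have hm := T.m_pos i; have hg := T.g_nonneg i
  unfold contrib at h
  have h' : 2 * T.w i * (T.g i - 1) - T.a i i < 0 := neg_of_mul_neg_right h hm.le
  rw [hk] at h' hd
  have hk0 : k < 0 := by by_contra hc; push Not at hc; nlinarith
  have : 2 * (T.g i - 1) - k < 0 := by
    by_contra hc; push Not at hc; nlinarith [mul_nonneg hw.le hc]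
  have hg0 : T.g i = 0 := by omega
  have hk1 : k = -1 := by omega
  exact ⟨hg0, by rw [hk, hk1]; ring⟩

theorem minusTwo_of_zero (hn : 1 < n) (i : Fin n) (h : contrib T i = 0) : T.IsMinusTwo i := by
  have hd := diag_neg T hn i
  obtain ⟨k, hk⟩ := T.w_dvd i i
  have hw := T.w_pos i; have hm := T.m_pos i; have hg := T.g_nonneg i
  unfold contrib at h
  have h' : 2 * T.w i * (T.g i - 1) - T.a i i = 0 := by
    rcases mul_eq_zero.1 h with h | h
    · omega
    · exact h
  rw [hk] at h' hd
  have hk0 : k < 0 := by by_contra hc; push Not at hc; nlinarith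
  have h2 : T.w i * (2 * (T.g i - 1) - k) = 0 := by linarith
  have : 2 * (T.g i - 1) - k = 0 := by
    rcases mul_eq_zero.1 h2 with h | h
    · omega
    · exact h
  have hg0 : T.g i = 0 := by omega
  have hk1 : k = -2 := by omega
  exact ⟨hg0, by rw [hk, hk1]; ring⟩

theorem contrib_nonneg (hn : 1 < n) (hmin : T.IsMinimal) (i : Fin n) : 0 ≤ contrib T i := by
  by_contra hc; push Not at hc
  exact hmin i (minusOne_of_neg T hn i hc)

theorem contrib_pos (hn : 1 < n) (hmin : T.IsMinimal) (i : Fin n) (h : ¬ T.IsMinusTwo i) :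
    0 < contrib T i :=
  lt_of_le_of_ne (contrib_nonneg T hn hmin i) fun e => h (minusTwo_of_zero T hn i e.symm)

theorem one_le_genus (hn : 1 < n) (hmin : T.IsMinimal) : 1 ≤ T.genus := by
  have := two_genus T
  have : 0 ≤ ∑ i, contrib T i := Finset.sum_nonneg fun i _ => contrib_nonneg T hn hmin i
  omega

theorem all_minusTwo (hn : 1 < n) (hmin : T.IsMinimal) (hg : T.genus = 1) (i : Fin n) :
    T.IsMinusTwo i := by
  have h := two_genus T
  rw [hg, sub_self, mul_zero] at h
  exact minusTwo_of_zero T hn i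
    ((Finset.sum_eq_zero_iff_of_nonneg fun j _ => contrib_nonneg T hn hmin j).1 h.symm i (mem_univ i))

/-- degree of an index inside a set -/
def degIn (C : Finset (Fin n)) (i : Fin n) : ℕ := (C.filter fun j => j ≠ i ∧ 0 < T.a i j).card

theorem sum_degIn_univ : ∑ i, degIn T univ i = 2 * T.edgeCount := by
  have h : ∀ i, degIn T univ i = (univ.filter fun j => i < j ∧ 0 < T.a i j).card
      + (univ.filter fun j => j < i ∧ 0 < T.a i j).card := fun i => by
    unfold degIn
    rw [← Finset.card_union_of_disjoint (Finset.disjoint_left.2 fun j h1 h2 => by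
      simp at h1 h2; omega)]
    congr 1; ext j; simp; constructor
    · rintro ⟨h1, h2⟩; rcases lt_or_gt_of_ne h1 with h | h
      · exact Or.inr ⟨h, h2⟩
      · exact Or.inl ⟨h, h2⟩
    · rintro (⟨h1, h2⟩ | ⟨h1, h2⟩) <;> exact ⟨by omega, h2⟩
  simp only [h, Finset.sum_add_distrib]
  have e1 : T.edgeCount = ∑ i, (univ.filter fun j => i < j ∧ 0 < T.a i j).card := by
    rw [NumericalType.edgeCount, Finset.card_filter, Fintype.sum_prod_type]
    simp only [Finset.card_filter]
  have e2 : ∑ i, (univ.filter fun j => j < i ∧ 0 < T.a i j).card = T.edgeCount := by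
    rw [e1]; simp only [Finset.card_filter]; rw [Finset.sum_comm]
    exact Finset.sum_congr rfl fun i _ => Finset.sum_congr rfl fun j _ => by rw [a_symm T j i]
  rw [e2, ← e1]; ring

theorem exists_core : ∃ C : Finset (Fin n),
    (∀ i ∈ C, 2 ≤ degIn T C i) ∧
      2 * ((T.edgeCount : ℤ) - n) ≤ ∑ i ∈ C, ((degIn T C i : ℤ) - 2) := by
  suffices h : ∀ C : Finset (Fin n), ∃ D : Finset (Fin n), (∀ i ∈ D, 2 ≤ degIn T D i) ∧
      ∑ i ∈ C, ((degIn T C i : ℤ) - 2) ≤ ∑ i ∈ D, ((degIn T D i : ℤ) - 2) by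
    obtain ⟨D, h1, h2⟩ := h univ
    refine ⟨D, h1, le_trans (le_of_eq ?_) h2⟩
    rw [Finset.sum_sub_distrib, ← Nat.cast_sum, sum_degIn_univ]
    simp; ring
  intro C
  induction C using Finset.strongInduction with
  | _ C ih =>
    by_cases h : ∀ i ∈ C, 2 ≤ degIn T C i
    · exact ⟨C, h, le_rfl⟩
    push Not at h
    obtain ⟨v, hv, hlt⟩ := h
    obtain ⟨D, h1, h2⟩ := ih (C.erase v) (Finset.erase_ssubset hv)
    refine ⟨D, h1, le_trans ?_ h2⟩
    have key : ∀ i ∈ C.erase v,
        (degIn T C i : ℤ) = degIn T (C.erase v) i + if 0 < T.a v i then 1 else 0 := by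
      intro i hi
      obtain ⟨hiv, hiC⟩ := mem_erase.1 hi
      unfold degIn
      conv_lhs => rw [← Finset.insert_erase hv, Finset.filter_insert]
      by_cases ha : 0 < T.a v i
      · rw [if_pos ⟨Ne.symm hiv, by rwa [a_symm T]⟩, if_pos ha,
          Finset.card_insert_of_notMem (by simp)]
        push_cast; ring
      · rw [if_neg (fun h => ha (by rw [a_symm T]; exact h.2)), if_neg ha]; simp
    have hdeg : (degIn T C v : ℤ) = ∑ i ∈ C.erase v, if 0 < T.a v i then (1 : ℤ) else 0 := by
      rw [Finset.sum_boole]; unfold degIn; congr 2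
      ext j; simp; tauto
    rw [← Finset.add_sum_erase C _ hv]
    simp only [Finset.sum_sub_distrib, Finset.sum_congr rfl key, Finset.sum_add_distrib, ← hdeg]
    have : (degIn T C v : ℤ) ≤ 1 := by exact_mod_cast Nat.le_of_lt_succ hlt
    linarith

theorem topGenus_le (hn : 1 < n) (hmin : T.IsMinimal) : T.topGenus ≤ T.genus := by
  obtain ⟨C, hC, hle⟩ := exists_core T
  have hu : ∀ i, (1 : ℤ) ≤ T.w i * T.m i := fun i => by
    have := T.w_pos i; have := T.m_pos i; nlinarith
  have h1 : ∀ i ∈ C, ∑ j ∈ C.filter (fun j => j ≠ i ∧ 0 < T.a i j), T.w j * T.m j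
      - 2 * (T.w i * T.m i) ≤ contrib T i := fun i _ => by
    have hr := row_le T i (C.filter (fun j => j ≠ i ∧ 0 < T.a i j)) (by simp)
    have hsum : ∑ j ∈ C.filter (fun j => j ≠ i ∧ 0 < T.a i j), T.w j * T.m j
        ≤ ∑ j ∈ C.filter (fun j => j ≠ i ∧ 0 < T.a i j), T.a i j * T.m j :=
      Finset.sum_le_sum fun j hj => by
        obtain ⟨-, hji, ha⟩ := mem_filter.1 hj
        exact mul_le_mul_of_nonneg_right (w_le' T i j (Ne.symm hji) ha.ne') (T.m_pos j).le
    have := mul_nonneg (mul_nonneg (T.m_pos i).le (T.w_pos i).le) (T.g_nonneg i)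
    unfold contrib
    linarith
  have h2 : ∑ i ∈ C, ((degIn T C i : ℤ) - 2) * (T.w i * T.m i) ≤
      ∑ i ∈ C, (∑ j ∈ C.filter (fun j => j ≠ i ∧ 0 < T.a i j), T.w j * T.m j
        - 2 * (T.w i * T.m i)) := by
    simp only [sub_mul, Finset.sum_sub_distrib]
    refine sub_le_sub_right (le_of_eq ?_) _
    simp only [degIn, Finset.card_filter, Nat.cast_sum, Finset.sum_mul, Finset.sum_filter]
    rw [Finset.sum_comm]
    refine Finset.sum_congr rfl fun i _ => Finset.sum_congr rfl fun j _ => ?_
    rw [a_symm T i j]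
    simp only [ne_comm (a := i) (b := j)]
    split_ifs <;> simp
  have h3 : ∑ i ∈ C, ((degIn T C i : ℤ) - 2) ≤ ∑ i ∈ C, ((degIn T C i : ℤ) - 2) * (T.w i * T.m i) :=
    Finset.sum_le_sum fun i hi => le_mul_of_one_le_right
      (by have := hC i hi; omega) (hu i)
  have h4 : ∑ i ∈ C, contrib T i ≤ ∑ i, contrib T i :=
    Finset.sum_le_sum_of_subset_of_nonneg (subset_univ _) fun i _ _ => contrib_nonneg T hn hmin i
  have h5 := Finset.sum_le_sum h1
  have := two_genus T
  unfold NumericalType.topGenus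
  linarith

theorem topGenus_nonneg : 0 ≤ T.topGenus := by
  classical
  let G : SimpleGraph (Fin n) :=
    { Adj := fun i j => i ≠ j ∧ 0 < T.a i j
      symm := ⟨fun i j h => ⟨h.1.symm, by rw [a_symm T]; exact h.2⟩⟩
      loopless := ⟨fun i h => h.1 rfl⟩ }
  have hne : Nonempty (Fin n) := ⟨⟨0, T.pos⟩⟩
  have hconn : G.Connected := by
    refine ⟨fun x y => ?_⟩
    by_contra hxy
    obtain ⟨i, hi, j, hj, hij⟩ := T.connected (univ.filter fun z => G.Reachable x z)
      ⟨x, mem_filter.2 ⟨mem_univ _, SimpleGraph.Reachable.refl x⟩⟩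
      (fun h => hxy (mem_filter.1 (h ▸ mem_univ y)).2)
    rw [mem_filter] at hi hj
    have hne' : i ≠ j := fun h => hj (h ▸ hi)
    exact hj ⟨mem_univ _, hi.2.trans
      (SimpleGraph.Adj.reachable (show G.Adj i j from ⟨hne', a_pos T i j hne' hij⟩))⟩
  have h := hconn.card_vert_le_card_edgeSet_add_one
  have hE : Nat.card G.edgeSet ≤ T.edgeCount := by
    rw [Nat.card_eq_fintype_card, ← G.edgeFinset_card]
    unfold NumericalType.edgeCount
    calc G.edgeFinset.card
        ≤ ((univ.filter fun p : Fin n × Fin n => p.1 < p.2 ∧ 0 < T.a p.1 p.2).image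
            (fun p => s(p.1, p.2))).card := Finset.card_le_card ?_
      _ ≤ _ := Finset.card_image_le
    intro e he
    induction e using Sym2.ind with
    | _ i j =>
      simp only [SimpleGraph.mem_edgeFinset, SimpleGraph.mem_edgeSet] at he
      rcases lt_or_gt_of_ne he.1 with h | h
      · exact mem_image.2 ⟨(i, j), by simp [h, he.2], rfl⟩
      · exact mem_image.2 ⟨(j, i), by simp [h, ← a_symm T i j, he.2], Sym2.eq_swap⟩
  rw [Nat.card_eq_fintype_card (α := Fin n), Fintype.card_fin] at h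
  unfold NumericalType.topGenus
  omega

end Groth.Agent.NumType.Genus
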