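import Groth.Agent.NumType.Basic
import Mathlib.Tactic.FinCases

set_option autoImplicit false
open Finset Models

namespace Groth.Agent.NumType.Shapes
open Groth.Agent.NumType.Basic

variable {n : ℕ} (T : NumericalType n)

theorem heavy (hn : 2 < n) (i j : Fin n) (hij : i ≠ j) (hi : T.IsMinusTwo i)
    (hj : T.IsMinusTwo j) (ha : T.a i j ≠ 0) (hw : T.w i ≠ T.w j) :
    (2 * T.w i ≤ T.w j ∧ T.w j ≤ T.a i j) ∨ (2 * T.w j ≤ T.w i ∧ T.w i ≤ T.a i j) := by
  have := T.w_pos i; have := T.w_pos j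
  rcases edge_cases T hn i j hij hi hj ha with h | h | h | h | h <;> omega

theorem edge_eq (hn : 2 < n) (i j : Fin n) (hij : i ≠ j) (hi : T.IsMinusTwo i)
    (hj : T.IsMinusTwo j) (ha : T.a i j ≠ 0) (hw : T.w i = T.w j) : T.a i j = T.w i := by
  have := T.w_pos i
  rcases edge_cases T hn i j hij hi hj ha with h | h | h | h | h <;> omega

theorem no_triple (hn : 3 < n) (i j k : Fin n) (hij : i ≠ j) (hjk : j ≠ k) (hik : i ≠ k)
    (hi : T.IsMinusTwo i) (hj : T.IsMinusTwo j) (hk : T.IsMinusTwo k)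
    (h1 : T.a i j ≠ 0) (h2 : T.a j k ≠ 0) :
    (T.w j = T.w i ∧ T.a i j = T.w i) ∨ (T.w j = 2 * T.w i ∧ T.a i j = T.w j) ∨
    (T.w i = 2 * T.w j ∧ T.a i j = T.w i) := by
  have hinj : Function.Injective ![i, j, k] := by
    intro a b; fin_cases a <;> fin_cases b <;> simp [hij, hjk, hik, hij.symm, hjk.symm, hik.symm]
  have hv : ∀ p, T.IsMinusTwo (![i, j, k] p) := by intro p; fin_cases p <;> simpa
  have w1 := w_le T j k hjk h2
  have w2 := w_le' T j k hjk h2
  have s1 := a_symm T i j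
  have s2 := a_symm T j k
  have n1 := T.offDiag_nonneg i k hik
  have s3 := a_symm T i k
  have := T.w_pos i; have := T.w_pos j; have := T.w_pos k
  have e0 : (univ.erase (0 : Fin 3)) = {1, 2} := by decide
  have e1 : (univ.erase (1 : Fin 3)) = {0, 2} := by decide
  have e2 : (univ.erase (2 : Fin 3)) = {0, 1} := by decide
  rcases edge_cases T (by omega) i j hij hi hj h1 with h | h | h | h | h
  · exact Or.inl h
  · exact Or.inr (Or.inl h)
  · exact Or.inr (Or.inr h)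
  · refine (contra T hn _ hinj 0 hv ![3, 2, 1] (by decide) ?_).elim
    refine Fin.forall_fin_succ.2 ⟨?_, Fin.forall_fin_succ.2 ⟨?_, Fin.forall_fin_succ.2 ⟨?_, fun p => p.elim0⟩⟩⟩
    · rw [show (univ.erase (0 : Fin 3)) = {1, 2} from e0]; simp; omega
    · rw [show (Fin.succ 0 : Fin 3) = 1 from rfl, e1]; simp; omega
    · rw [show (Fin.succ (Fin.succ 0) : Fin 3) = 2 from rfl, e2]; simp; omega
  · refine (contra T hn _ hinj 0 hv ![1, 2, 1] (by decide) ?_).elim
    refine Fin.forall_fin_succ.2 ⟨?_, Fin.forall_fin_succ.2 ⟨?_, Fin.forall_fin_succ.2 ⟨?_, fun p => p.elim0⟩⟩⟩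
    · rw [show (univ.erase (0 : Fin 3)) = {1, 2} from e0]; simp; omega
    · rw [show (Fin.succ 0 : Fin 3) = 1 from rfl, e1]; simp; omega
    · rw [show (Fin.succ (Fin.succ 0) : Fin 3) = 2 from rfl, e2]; simp; omega

/-- a path whose two extreme edges both change the weight -/
theorem double_double (s : ℕ) (hs : 2 ≤ s) (hn : s + 1 < n) (v : Fin (s + 1) → Fin n)
    (hvi : Function.Injective v) (hv : ∀ p, T.IsMinusTwo (v p))
    (hc : ∀ p q : Fin (s + 1), q.val = p.val + 1 → T.a (v p) (v q) ≠ 0)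
    (hf : T.w (v ⟨0, by omega⟩) ≠ T.w (v ⟨1, by omega⟩))
    (hl : T.w (v ⟨s - 1, by omega⟩) ≠ T.w (v ⟨s, by omega⟩)) : False := by
  have hA : s < s + 1 := by omega
  have hB : s - 1 < s + 1 := by omega
  have hC : 1 < s + 1 := by omega
  have h01 : (⟨0, by omega⟩ : Fin (s + 1)) ≠ ⟨1, by omega⟩ := by simp [Fin.ext_iff]
  have hs1 : (⟨s - 1, by omega⟩ : Fin (s + 1)) ≠ ⟨s, by omega⟩ := by simp [Fin.ext_iff]; omega
  have g0 := heavy T (by omega) _ _ (hvi.ne h01) (hv _) (hv _) (hc _ _ (by simp)) hf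
  have g1 := heavy T (by omega) _ _ (hvi.ne hs1) (hv _) (hv _) (hc _ _ (by simp; omega)) hl
  let x : Fin (s + 1) → ℤ := fun p =>
    if p.val = 0 then (if T.w (v ⟨0, by omega⟩) < T.w (v ⟨1, by omega⟩) then 2 else 1)
    else if p.val = s then (if T.w (v ⟨s, by omega⟩) < T.w (v ⟨s - 1, by omega⟩) then 2 else 1)
    else 2
  have hx : ∀ p, 0 < x p := fun p => by simp only [x]; split_ifs <;> norm_num
  have x0 : x ⟨0, Nat.succ_pos _⟩ =
      if T.w (v ⟨0, by omega⟩) < T.w (v ⟨1, hC⟩) then 2 else 1 := by simp [x]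
  have xs : x ⟨s, hA⟩ = if T.w (v ⟨s, hA⟩) < T.w (v ⟨s - 1, hB⟩) then 2 else 1 := by
    have : s ≠ 0 := by omega
    simp [x, this]
  have xm : ∀ q : Fin (s + 1), q.val ≠ 0 → q.val ≠ s → x q = 2 := fun q a b => by simp only [x]; rw [if_neg a, if_neg b]
  refine contra T hn v hvi ⟨0, by omega⟩ hv x hx fun p => ?_
  have := T.w_pos (v p)
  rcases Nat.eq_zero_or_pos p.val with hp | hp
  · obtain rfl : p = ⟨0, Nat.succ_pos _⟩ := Fin.ext hp
    refine le_trans ?_ (le_sum1 T v hvi x hx _ ⟨1, by omega⟩ h01.symm)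
    rw [xm ⟨1, hC⟩ (by simp) (show 1 ≠ s by omega), x0]
    split_ifs <;> rcases g0 with ⟨a1, a2⟩ | ⟨a1, a2⟩ <;> nlinarith [T.w_pos (v ⟨1, hC⟩)]
  rcases eq_or_lt_of_le (Nat.le_of_lt_succ p.isLt) with hp' | hp'
  · obtain rfl : p = ⟨s, hA⟩ := Fin.ext hp'
    refine le_trans ?_ (le_sum1 T v hvi x hx _ ⟨s - 1, by omega⟩ hs1)
    rw [xm ⟨s - 1, hB⟩ (show s - 1 ≠ 0 by omega) (show s - 1 ≠ s by omega), a_symm T, xs]
    split_ifs <;> rcases g1 with ⟨a1, a2⟩ | ⟨a1, a2⟩ <;> nlinarith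
  set l : Fin (s + 1) := ⟨p.val - 1, by omega⟩ with hl'
  set r : Fin (s + 1) := ⟨p.val + 1, by omega⟩ with hr'
  have hlp : l ≠ p := by simp [hl', Fin.ext_iff]; omega
  have hrp : r ≠ p := by simp [hr', Fin.ext_iff]
  have xp : x p = 2 := xm p (by omega) (by omega)
  refine le_trans ?_ (le_sum2 T v hvi x hx p l r hlp hrp (by simp [hl', hr', Fin.ext_iff]))
  rw [xp]
  have al : 2 * T.w (v p) ≤ T.a (v p) (v l) * x l := by
    have hal := hc l p (by simp [hl']; omega)
    have w' := w_le' T _ _ (hvi.ne hlp) hal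
    rw [a_symm T (v p)]
    by_cases hl0 : l.val = 0
    · obtain rfl : p = ⟨1, hC⟩ := Fin.ext (by simp [hl'] at hl0; simp; omega)
      simp only [hl', Nat.sub_self] at hal w' ⊢
      rw [x0]
      rcases g0 with ⟨a1, a2⟩ | ⟨a1, a2⟩ <;> split_ifs <;> nlinarith [T.w_pos (v ⟨0, by omega⟩)]
    · have : x l = 2 := xm l hl0 (show p.val - 1 ≠ s by omega)
      rw [this]; linarith
  have ar : 2 * T.w (v p) ≤ T.a (v p) (v r) * x r := by
    have har := hc p r (by simp [hr'])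
    have w' := w_le T _ _ (hvi.ne hrp.symm) har
    by_cases hr0 : r.val = s
    · have hps : p = ⟨s - 1, hB⟩ := Fin.ext (by simp [hr'] at hr0; simp; omega)
      have hrs : r = ⟨s, hA⟩ := Fin.ext hr0
      subst hps
      rw [hrs] at har w' ⊢
      rw [xs]
      rcases g1 with ⟨a1, a2⟩ | ⟨a1, a2⟩ <;> split_ifs <;> nlinarith [T.w_pos (v ⟨s, by omega⟩)]
    · have : x r = 2 := xm r (Nat.succ_ne_zero _) hr0
      rw [this]; linarith
  linarith

/-- a branching index joined by a path to an edge which changes the weight -/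
theorem branch_double (s : ℕ) (hs : 1 ≤ s) (hn : s + 3 < n) (v : Fin (s + 3) → Fin n)
    (hvi : Function.Injective v) (hv : ∀ p, T.IsMinusTwo (v p))
    (hc : ∀ p q : Fin (s + 3), q.val = p.val + 1 → q.val ≤ s → T.a (v p) (v q) ≠ 0)
    (hb1 : T.a (v ⟨0, by omega⟩) (v ⟨s + 1, by omega⟩) ≠ 0)
    (hb2 : T.a (v ⟨0, by omega⟩) (v ⟨s + 2, by omega⟩) ≠ 0)
    (hl : T.w (v ⟨s - 1, by omega⟩) ≠ T.w (v ⟨s, by omega⟩)) : False := by
  have hA : s < s + 3 := by omega
  have hB : s - 1 < s + 3 := by omega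
  have hC : 1 < s + 3 := by omega
  have hD : s + 1 < s + 3 := by omega
  have hE : s + 2 < s + 3 := by omega
  have hs1 : (⟨s - 1, by omega⟩ : Fin (s + 3)) ≠ ⟨s, by omega⟩ := by simp [Fin.ext_iff]; omega
  have g1 := heavy T (by omega) _ _ (hvi.ne hs1) (hv _) (hv _)
    (hc _ _ (by simp; omega) (by simp)) hl
  let x : Fin (s + 3) → ℤ := fun p =>
    if p.val < s then 2
    else if p.val = s then (if T.w (v ⟨s, by omega⟩) < T.w (v ⟨s - 1, by omega⟩) then 2 else 1)
    else 1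
  have hx : ∀ p, 0 < x p := fun p => by simp only [x]; split_ifs <;> norm_num
  have xs : x ⟨s, hA⟩ = if T.w (v ⟨s, hA⟩) < T.w (v ⟨s - 1, hB⟩) then 2 else 1 := by simp [x]
  have right : ∀ p r : Fin (s + 3), p.val < s → r.val = p.val + 1 →
      2 * T.w (v p) ≤ T.a (v p) (v r) * x r := by
    intro p r hp hr
    have har := hc p r hr (by omega)
    have w' := w_le T _ _ (hvi.ne (show p ≠ r by simp [Fin.ext_iff]; omega)) har
    by_cases hr0 : r.val = s
    · obtain rfl : p = ⟨s - 1, hB⟩ := Fin.ext (by simp; omega)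
      obtain rfl : r = ⟨s, hA⟩ := Fin.ext hr0
      rw [xs]
      rcases g1 with ⟨a1, a2⟩ | ⟨a1, a2⟩ <;> split_ifs <;> nlinarith [T.w_pos (v ⟨s, by omega⟩)]
    · have : x r = 2 := by simp only [x]; rw [if_pos (by omega)]
      rw [this]; linarith
  refine contra T hn v hvi ⟨0, by omega⟩ hv x hx fun p => ?_
  rcases lt_trichotomy p.val s with hp | hp | hp
  · have xp : x p = 2 := if_pos hp
    have ar := right p ⟨p.val + 1, by omega⟩ hp rfl
    rw [xp]
    by_cases hp0 : p.val = 0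
    · obtain rfl : p = ⟨0, Nat.succ_pos _⟩ := Fin.ext hp0
      refine le_trans ?_ (le_sum3 T v hvi x hx _ ⟨1, by omega⟩ ⟨s + 1, by omega⟩ ⟨s + 2, by omega⟩
        (by simp [Fin.ext_iff]) (by simp [Fin.ext_iff]) (by simp [Fin.ext_iff])
        (by simp [Fin.ext_iff]; omega) (by simp [Fin.ext_iff]) (by simp [Fin.ext_iff]))
      have := w_le T _ _ (hvi.ne (by simp [Fin.ext_iff])) hb1
      have := w_le T _ _ (hvi.ne (by simp [Fin.ext_iff])) hb2
      have e1 : x ⟨s + 1, by omega⟩ = 1 := by simp [x]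
      have e2 : x ⟨s + 2, by omega⟩ = 1 := by simp [x]
      simp only [e1, e2, mul_one, Nat.zero_add] at *
      linarith
    · set l : Fin (s + 3) := ⟨p.val - 1, by omega⟩ with hl'
      refine le_trans ?_ (le_sum2 T v hvi x hx p l ⟨p.val + 1, by omega⟩
        (by simp [hl', Fin.ext_iff]; omega) (by simp [Fin.ext_iff]) (by simp [hl', Fin.ext_iff]))
      have w' := w_le' T (v l) (v p) (hvi.ne (by simp [hl', Fin.ext_iff]; omega))
        (hc l p (by simp [hl']; omega) (by omega))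
      have : x l = 2 := if_pos (show l.val < s by simp [hl']; omega)
      rw [this, a_symm T (v p) (v l)]; linarith
  · obtain rfl : p = ⟨s, hA⟩ := Fin.ext hp
    refine le_trans ?_ (le_sum1 T v hvi x hx _ ⟨s - 1, by omega⟩ hs1)
    have x1 : x ⟨s - 1, by omega⟩ = 2 := if_pos (show s - 1 < s by omega)
    rw [x1, a_symm T, xs]
    have := T.w_pos (v ⟨s, by omega⟩)
    rcases g1 with ⟨a1, a2⟩ | ⟨a1, a2⟩ <;> split_ifs <;> nlinarith
  · refine le_trans ?_ (le_sum1 T v hvi x hx p ⟨0, by omega⟩ (by simp [Fin.ext_iff]; omega))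
    have x0 : x ⟨0, by omega⟩ = 2 := if_pos (show 0 < s by omega)
    have xp : x p = 1 := by simp only [x]; rw [if_neg (by omega), if_neg (by omega)]
    rw [x0, xp, a_symm T]
    have hp' : p = ⟨s + 1, hD⟩ ∨ p = ⟨s + 2, hE⟩ := by
      simp only [Fin.ext_iff]; omega
    rcases hp' with rfl | rfl
    · have := w_le' T _ _ (hvi.ne (by simp [Fin.ext_iff])) hb1; linarith
    · have := w_le' T _ _ (hvi.ne (by simp [Fin.ext_iff])) hb2; linarith

end Groth.Agent.NumType.Shapes
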